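import Cfsg.Agent.Lib.Helper8.AutDMm.NormalFormM
import Cfsg.Agent.Lib.Helper5.AutDM.Comm
import Mathlib

/-!
# `Ω⁻_{2κ+4}(F)`, `κ ≥ 1`: the normal form of an automorphism of the central quotient (helper8)

`mm_normal_form` with the commutation facts of helper5 (`hcommM`, `hncommM`).
-/

set_option autoImplicit false

namespace Cfsg.Agent.Lib.Helper8.AutDMm

open Matrix Cfsg
open Cfsg.Agent.AutPSU (upT loT)
open Cfsg.Agent.Lib.Helper5.AutDM Cfsg.Agent.AutPM

variable {N : ℕ} {F K : Type*} [Field F] [Field K] [Fintype K] (C : MC N F K)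

/-- **The normal form** (subgroup form). -/
theorem mm_NF (hκ : 1 ≤ C.κ) (p : ℕ) [Fact p.Prime] [CharP K p] {Q : Type*} [Group Q]
    (f : Mm C →* Q) (hf : Function.Surjective f)
    (hker : f.ker ≤ Subgroup.center (Mm C)) (θ : Q ≃* Q) :
    ∃ x : Q,
      ((UM C).map f).map (θ.trans (MulAut.conj x⁻¹)).toMonoidHom = (UM C).map f ∧
      ((VM C).map f).map (θ.trans (MulAut.conj x⁻¹)).toMonoidHom = (VM C).map f ∧
      ((BM C).map f).map (θ.trans (MulAut.conj x⁻¹)).toMonoidHom = (BM C).map f ∧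
      (∀ i, ((XM C i).map f).map (θ.trans (MulAut.conj x⁻¹)).toMonoidHom = (XM C i).map f) ∧
      (∀ i, ((YM C i).map f).map (θ.trans (MulAut.conj x⁻¹)).toMonoidHom = (YM C i).map f) :=
  mm_normal_form C p f hf hker (fun i j hij _ hx _ hy => hcommM C i j hij hx hy)
    (hncommM C hκ f hker) θ

/-- **The normal form** (elementwise form, the hypotheses `hX`, `hY`, `hXT`, `hYT` of lead's
`MCtx.model_aut`): every automorphism of the central quotient of the model of `Ω⁻_{2κ+4}(F)` is,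
up to an inner automorphism, one which preserves the fundamental root elements. -/
theorem mm_hNF (hκ : 1 ≤ C.κ) (p : ℕ) [Fact p.Prime] [CharP K p] {Q : Type*} [Group Q]
    (f : Mm C →* Q) (hf : Function.Surjective f)
    (hker : f.ker ≤ Subgroup.center (Mm C)) (θ : Q ≃* Q) :
    ∃ x : Q,
      (∀ i (hi : i < C.κ) (u : F), ∃ v : F, (θ.trans (MulAut.conj x⁻¹)) (f (sMm C i hi (upT u)))
        = f (sMm C i hi (upT v))) ∧
      (∀ i (hi : i < C.κ) (u : F), ∃ v : F, (θ.trans (MulAut.conj x⁻¹)) (f (sMm C i hi (loT u)))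
        = f (sMm C i hi (loT v))) ∧
      (∀ u : K, ∃ v : K, (θ.trans (MulAut.conj x⁻¹)) (f (tMm C (upT u))) = f (tMm C (upT v))) ∧
      (∀ u : K, ∃ v : K, (θ.trans (MulAut.conj x⁻¹)) (f (tMm C (loT u))) = f (tMm C (loT v))) :=
  mm_normal_form_el C p f hf hker (fun i j hij _ hx _ hy => hcommM C i j hij hx hy)
    (hncommM C hκ f hker) θ

end Cfsg.Agent.Lib.Helper8.AutDMm
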