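import Cfsg.Agent.Lib.Helper5.AutDM.Opp2
import Cfsg.Agent.Lib.Helper8.AutSp.Push
import Cfsg.Agent.Lib.Helper8.Tw.FixSt
import Cfsg.Agent.H9.SpB
import Mathlib

/-!
# `Ω⁻_{2κ+4}(F)`: the split `(B, N)`-pair facts for helper5's model `Mm C` (helper8)
-/

set_option autoImplicit false

namespace Cfsg.Agent.Lib.Helper8.AutDMm

open Matrix Cfsg Cfsg.Agent.Lib.Helper5.GLBN Cfsg.Agent.Lib.Helper8.SpBN
open Cfsg.Agent.Lib.Helper8.Tw Cfsg.Agent.PSUT
open Cfsg.Agent.Lib.Helper5.AutBN Cfsg.Agent.Lib.Helper8.AutSp Cfsg.Agent.Lib.Helper5.AutSU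
open Cfsg.Agent.Lib.Helper5.AutDO Cfsg.Agent.Lib.Helper5.AutDM Cfsg.Agent.AutPM
open scoped MatrixGroups

variable {N : ℕ} {F K : Type*} [Field F] [Field K] [Fintype K] (C : MC N F K)

theorem gm_injective : Function.Injective (gm C : Mm C → GL (Fin N) K) := by
  intro g h e
  exact Subtype.ext (gl_injective e)

theorem gm_one : gm C (1 : Mm C) = 1 := gl_one

theorem gm_pow (g : Mm C) (n : ℕ) : gm C (g ^ n) = gm C g ^ n := map_pow (gmHom C) g n

theorem mem_UM_iff_UT {g : Mm C} : g ∈ UM C ↔ gm C g ∈ UT N K :=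
  mem_UU_iff_UT (g := (g : SUm N K (RingHom.id K)))

/-- `B` normalizes `U` -/
theorem UM_normal : ∀ b ∈ BM C, ∀ u ∈ UM C, b * u * b⁻¹ ∈ UM C := by
  intro b hb u hu
  exact UU_normal (b : SUm N K (RingHom.id K)) hb (u : SUm N K (RingHom.id K)) hu

theorem isPGroup_UM (p : ℕ) [Fact p.Prime] [CharP K p] : IsPGroup p ↥(UM C) := by
  have h := isPGroup_UT (N := N) (F := K) p
  let f : ↥(UM C) →* ↥(UT N K) :=
    ((gmHom C).comp (UM C).subtype).codRestrict (UT N K)
      (fun g => (mem_UM_iff_UT C).1 g.2)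
  have hf : Function.Injective f := by
    intro a b hab
    have h1 : gm C (a : Mm C) = gm C (b : Mm C) :=
      congrArg (fun x : ↥(UT N K) => (x : GL (Fin N) K)) hab
    exact Subtype.ext (gm_injective C h1)
  exact h.of_injective f hf

/-- an element of `B` of `p`-power order is unitriangular -/
theorem mem_UM_of_pow (p : ℕ) [Fact p.Prime] [CharP K p] {b : Mm C} (hb : b ∈ BM C)
    (k : ℕ) (h : b ^ p ^ k = 1) : b ∈ UM C := by
  rw [mem_UM_iff_UT]
  apply mem_UT_of_pow p (mem_BB_iff_upper.1 hb) k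
  have := gm_pow C b (p ^ k)
  rw [h, gm_one] at this
  exact this.symm

/-- `B = T U` -/
theorem exists_TU (b : Mm C) (hb : b ∈ (bnM C).B) :
    ∃ t ∈ (bnM C).B ⊓ (bnM C).N, ∃ u ∈ UM C, b = t * u := by
  rw [bnM_B] at hb
  obtain ⟨u, hu, t, ht, rfl⟩ := exists_UT C hb
  refine ⟨t, ⟨?_, ?_⟩, t⁻¹ * u * t⁻¹⁻¹, ?_, by group⟩
  · rw [bnM_B]
    exact TM_le_BM C ht
  · rw [bnM_N]
    exact TM_le_NMm C ht
  · exact UM_normal C _ (inv_mem (TM_le_BM C ht)) _ hu

/-- the normalizer of `U` is `B` -/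
theorem normalizer_UM :
    Subgroup.normalizer (UM C : Set (Mm C)) = (bnM C).B := by
  apply normalizer_eq_B (bnM C) (UM C)
  · intro b hb
    rw [bnM_B] at hb
    exact UM_normal C b hb
  · rw [bnM_B]
    exact UM_le_BM C
  · exact exists_TU C

/-- `U` is a Sylow subgroup -/
theorem card_UM (p : ℕ) [Fact p.Prime] [CharP K p] :
    Nat.card ↥(UM C) = p ^ (Nat.card (Mm C)).factorization p := by
  apply Cfsg.Agent.H9.SpB.card_eq_of_normalizer p (UM C) (isPGroup_UM C p)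
  intro x hx k hk
  rw [normalizer_UM, bnM_B] at hx
  exact mem_UM_of_pow C p hx k hk

theorem index_UM (p : ℕ) [hp : Fact p.Prime] [CharP K p] :
    ¬ p ∣ (UM C).index := by
  have h1 := Subgroup.card_mul_index (UM C)
  rw [card_UM C p] at h1
  have hpos : Nat.card (Mm C) ≠ 0 := Nat.card_pos.ne'
  intro hdvd
  have h2 : p ^ ((Nat.card (Mm C)).factorization p + 1) ∣ Nat.card (Mm C) := by
    obtain ⟨d, hd⟩ := hdvd
    refine ⟨d, ?_⟩
    rw [pow_succ, mul_assoc, ← hd]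
    exact h1.symm
  exact Nat.pow_succ_factorization_not_dvd hpos hp.out h2

/-- the centre lies in `B` -/
theorem center_le_B : Subgroup.center (Mm C) ≤ (bnM C).B := by
  rw [← normalizer_UM]
  intro z hz
  rw [Subgroup.mem_normalizer_iff]
  intro u
  have e : z * u * z⁻¹ = u := by
    rw [← Subgroup.mem_center_iff.1 hz u, mul_inv_cancel_right]
  rw [e]

theorem BM_inf_VM : BM C ⊓ VM C = ⊥ := by
  rw [eq_bot_iff]
  rintro g ⟨hB, hV⟩
  have h : (g : SUm N K (RingHom.id K)) ∈ BB N K (RingHom.id K) ⊓ VV N K (RingHom.id K) :=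
    ⟨hB, hV⟩
  rw [BB_inf_VV, Subgroup.mem_bot] at h
  rw [Subgroup.mem_bot]
  exact Subtype.ext h

/-- `U` meets the centre trivially -/
theorem UM_inf_center : UM C ⊓ Subgroup.center (Mm C) = ⊥ := by
  obtain ⟨n0, -, -, hUV, -, -⟩ := exists_n0M C
  rw [eq_bot_iff]
  rintro z ⟨hzU, hzZ⟩
  have hzV : z ∈ VM C := by
    rw [← hUV, mem_cj]
    have : n0⁻¹ * z * n0 = z := by
      rw [mul_assoc, ← Subgroup.mem_center_iff.1 hzZ n0, ← mul_assoc, inv_mul_cancel, one_mul]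
    rw [this]
    exact hzU
  have : z ∈ BM C ⊓ VM C := ⟨UM_le_BM C hzU, hzV⟩
  rw [BM_inf_VM] at this
  exact this

/-- the simple reflections are distinct -/
theorem nM_injective : Function.Injective (nM C) := by
  intro i j h
  apply rhoM_injective C
  have h1 := isMono_nM C i
  have h2 := isMono_nM C j
  rw [h] at h1
  exact IsMono.unique h1 h2

end Cfsg.Agent.Lib.Helper8.AutDMm
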