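import Cfsg.Agent.Lib.Helper8.AutDMm.FactsA
import Cfsg.Agent.Lib.Helper5.AutDM.RowClear
import Mathlib

/-!
# `Ω⁻_{2κ+4}(F)`: the opposite Sylow subgroups (helper8)

A conjugate of `U` meeting `B` trivially is a conjugate of `V` under `B`.
-/

set_option autoImplicit false

namespace Cfsg.Agent.Lib.Helper8.AutDMm

open Matrix Cfsg Cfsg.Agent.Lib.Helper5.GLBN Cfsg.Agent.Lib.Helper8.SpBN
open Cfsg.Agent.Lib.Helper8.Tw Cfsg.Agent.PSUT Cfsg.Agent.AutPSU
open Cfsg.Agent.Lib.Helper5.AutBN Cfsg.Agent.Lib.Helper8.AutSp Cfsg.Agent.Lib.Helper5.AutSU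
open Cfsg.Agent.Lib.Helper5.AutDO Cfsg.Agent.Lib.Helper5.AutDM Cfsg.Agent.AutPM
open Cfsg.Agent.Lib.Helper5.BN
open scoped MatrixGroups

variable {N : ℕ} {F K : Type*} [Field F] [Field K] [Fintype K] (C : MC N F K)

/-- the long root elements with non-middle coordinates, over the small field, lie in the model -/
theorem xQ_mem_G0 {a b : Fin N} (hab : a < b) (h1 : a ≠ b.rev) (ha : C.NM a) (hb : C.NM b)
    (t : F) : xQ (quadOf C.even (ne_of_lt hab) h1) (C.ι t) ∈ C.G0 := by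
  apply UM_le_G0 C
  refine Subgroup.mem_inf.2 ⟨?_, C.xQ_long_mem_SM _ ha hb t⟩
  rw [mem_UU, gl_xQ]
  exact xS_isUpU hab _

/-- the short root elements of the twisted group at the coordinates of the first half lie in
the model -/
theorem tw_mem_G0 {a : Fin N} (ha : C.NM a) (h1 : a < C.D.p1) (s : K) : C.tw ha s ∈ C.G0 :=
  UM_le_G0 C ⟨tw_mem_UU C ha h1 s, C.tw_mem_SM ha s⟩

theorem NM_perm_iff {n : Mm C} {π : Equiv.Perm (Fin N)}
    (hπ : IsMono ((gm C n : GL (Fin N) K) : Matrix (Fin N) (Fin N) K) π) (a : Fin N) :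
    C.NM (π a) ↔ C.NM a := by
  unfold MC.NM
  rw [← perm_tau C hπ]
  exact π.injective.eq_iff

/-- the permutation of a monomial element preserves the pair of the middle coordinates -/
theorem mid_perm_iff {n : Mm C} {π : Equiv.Perm (Fin N)}
    (hπ : IsMono ((gm C n : GL (Fin N) K) : Matrix (Fin N) (Fin N) K) π) (k : Fin N) :
    (π k = C.D.p1 ∨ π k = C.D.p1.rev) ↔ (k = C.D.p1 ∨ k = C.D.p1.rev) := by
  have h1 : ∀ x : Fin N, (x = C.D.p1 ∨ x = C.D.p1.rev) ↔ ¬ C.NM x := by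
    intro x
    constructor
    · rintro (rfl | rfl) h
      · exact C.NM_ne_p1 h rfl
      · exact C.NM_ne_p1_rev h rfl
    · intro h
      by_contra hcon
      have hcon' := not_or.1 hcon
      exact h (C.NM_of_ne hcon'.1 hcon'.2)
  rw [h1, h1, NM_perm_iff C hπ]

/-- the shape of a short root of the twisted group under the permutation of a monomial
element -/
theorem PT_perm {n : Mm C} {π : Equiv.Perm (Fin N)}
    (hπ : IsMono ((gm C n : GL (Fin N) K) : Matrix (Fin N) (Fin N) K) π) (a i k : Fin N) :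
    C.PT (π a) (π i) (π k) ↔ C.PT a i k := by
  unfold MC.PT
  rw [← perm_rev C hπ, π.injective.eq_iff, π.injective.eq_iff]
  have hk := mid_perm_iff C hπ k
  have hi := mid_perm_iff C hπ i
  constructor
  · rintro (⟨h1, h2 | h2 | h2⟩ | ⟨h1, h2⟩)
    · rcases hk.1 (Or.inl h2) with h | h
      · exact Or.inl ⟨h1, Or.inl h⟩
      · exact Or.inl ⟨h1, Or.inr (Or.inl h)⟩
    · rcases hk.1 (Or.inr h2) with h | h
      · exact Or.inl ⟨h1, Or.inl h⟩
      · exact Or.inl ⟨h1, Or.inr (Or.inl h)⟩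
    · exact Or.inl ⟨h1, Or.inr (Or.inr h2)⟩
    · exact Or.inr ⟨h1, hi.1 h2⟩
  · rintro (⟨h1, h2 | h2 | h2⟩ | ⟨h1, h2⟩)
    · rcases hk.2 (Or.inl h2) with h | h
      · exact Or.inl ⟨h1, Or.inl h⟩
      · exact Or.inl ⟨h1, Or.inr (Or.inl h)⟩
    · rcases hk.2 (Or.inr h2) with h | h
      · exact Or.inl ⟨h1, Or.inl h⟩
      · exact Or.inl ⟨h1, Or.inr (Or.inl h)⟩
    · exact Or.inl ⟨h1, Or.inr (Or.inr h2)⟩
    · exact Or.inr ⟨h1, hi.2 h2⟩

theorem lt_p1_iff (a : Fin N) (ha : C.NM a) : a < C.D.p1 ↔ a < a.rev := by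
  have hN := C.hN
  have h1 := (C.NM_val ha).1
  have h2 := (C.NM_val ha).2
  have hκ : C.D.κ = C.κ := rfl
  rw [Fin.lt_def, Fin.lt_def, C.D.p1_val, Fin.val_rev, hκ]
  have := a.2
  omega

/-- a long root position which is not inverted by a monomial element `n` with
`n U n⁻¹ ∩ U = 1` -/
theorem not_lt_long {n : Mm C} {π : Equiv.Perm (Fin N)}
    (hπ : IsMono ((gm C n : GL (Fin N) K) : Matrix (Fin N) (Fin N) K) π)
    (h : cj n (UM C) ⊓ UM C = ⊥) (a b : Fin N) (hab : a < b) (h1 : a ≠ b.rev)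
    (ha : C.NM a) (hb : C.NM b) : ¬ π a < π b := by
  intro hlt
  have h1' : π a ≠ (π b).rev := by
    rw [← perm_rev C hπ]
    intro e
    exact h1 (π.injective e)
  have ha' := (NM_perm_iff C hπ a).2 ha
  have hb' := (NM_perm_iff C hπ b).2 hb
  set r : Mm C := ⟨xQ (quadOf C.even (ne_of_lt hlt) h1') (C.ι 1),
    xQ_mem_G0 C hlt h1' ha' hb' 1⟩ with hr
  have hsh : (r : SUm N K (RingHom.id K)) ∈ Sh N K (RingHom.id K) (PS (π a) (π b)) :=
    xQ_mem_Sh (quadOf C.even (ne_of_lt hlt) h1') (C.ι 1)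
  have hrU : r ∈ UM C := by
    rw [mem_UM]
    apply sh_le_UU _ hsh
    rintro i k (⟨rfl, rfl⟩ | ⟨rfl, rfl⟩)
    · exact hlt
    · exact Fin.rev_lt_rev.2 hlt
  have hrc : r ∈ cj n (UM C) := by
    rw [mem_cj, mem_UM]
    have h2 := sh_conj (n := (n : SUm N K (RingHom.id K))) hπ hsh
    apply sh_le_UU _ h2
    rintro i k (⟨e1, e2⟩ | ⟨e1, e2⟩)
    · rw [π.injective e1, π.injective e2]
      exact hab
    · rw [← perm_rev C hπ] at e1 e2
      rw [π.injective e1, π.injective e2]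
      exact Fin.rev_lt_rev.2 hab
  have hr1 : r ∈ cj n (UM C) ⊓ UM C := ⟨hrc, hrU⟩
  rw [h, Subgroup.mem_bot] at hr1
  have h4 := congrArg (fun g : Mm C =>
    ((gm C g : GL (Fin N) K) : Matrix (Fin N) (Fin N) K) (π a) (π b)) hr1
  simp only [gm_one, Units.val_one] at h4
  rw [Matrix.one_apply_ne (ne_of_lt hlt)] at h4
  have h5 : ((gm C r : GL (Fin N) K) : Matrix (Fin N) (Fin N) K) (π a) (π b) = C.ι 1 := by
    show ((xS (RingHom.id K) (π a) (π b) (ne_of_lt hlt) (C.ι 1) : GL (Fin N) K) :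
      Matrix (Fin N) (Fin N) K) (π a) (π b) = C.ι 1
    exact xS_apply_self _ _ _ _ (ne_rev C.even _) h1'.symm _
  rw [h5, map_one] at h4
  exact one_ne_zero h4

/-- a coordinate of the first half is not carried to the first half by a monomial element `n`
with `n U n⁻¹ ∩ U = 1` -/
theorem not_lt_tw {n : Mm C} {π : Equiv.Perm (Fin N)}
    (hπ : IsMono ((gm C n : GL (Fin N) K) : Matrix (Fin N) (Fin N) K) π)
    (h : cj n (UM C) ⊓ UM C = ⊥) (a : Fin N) (ha : C.NM a) (hlt : a < C.D.p1) :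
    ¬ π a < C.D.p1 := by
  intro hlt'
  have ha' := (NM_perm_iff C hπ a).2 ha
  set r : Mm C := ⟨C.tw ha' 1, tw_mem_G0 C ha' hlt' 1⟩ with hr
  have hsh : (r : SUm N K (RingHom.id K)) ∈ Sh N K (RingHom.id K) (C.PT (π a)) :=
    C.tw_mem_Sh ha' 1
  have hPT : ∀ (c : Fin N), C.NM c → c < C.D.p1 → ∀ i k, C.PT c i k → i < k := by
    intro c hc hc1 i k hik
    have hN := C.hN
    have hκ : C.D.κ = C.κ := rfl
    have hc2 := Fin.lt_def.1 hc1
    rw [C.D.p1_val, hκ] at hc2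
    have hcr : ((c.rev : Fin N) : ℕ) = N - (c + 1) := Fin.val_rev c
    have hp1 := C.D.p1_val
    have hp2 := C.D.p1_rev_val
    rw [hκ] at hp1 hp2
    rw [Fin.lt_def]
    rcases hik with ⟨rfl, rfl | rfl | rfl⟩ | ⟨rfl, rfl | rfl⟩ <;> omega
  have hrU : r ∈ UM C := by
    rw [mem_UM]
    exact sh_le_UU (hPT _ ha' hlt') hsh
  have hrc : r ∈ cj n (UM C) := by
    rw [mem_cj, mem_UM]
    have h2 := sh_conj (n := (n : SUm N K (RingHom.id K))) hπ hsh
    apply sh_le_UU _ h2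
    intro i k hik
    exact hPT a ha hlt i k ((PT_perm C hπ a i k).1 hik)
  have hr1 : r ∈ cj n (UM C) ⊓ UM C := ⟨hrc, hrU⟩
  rw [h, Subgroup.mem_bot] at hr1
  have h4 := congrArg (fun g : Mm C =>
    ((gm C g : GL (Fin N) K) : Matrix (Fin N) (Fin N) K) (π a) C.D.p1) hr1
  simp only [gm_one, Units.val_one] at h4
  rw [Matrix.one_apply_ne (ne_of_lt hlt')] at h4
  have h5 : ((gm C r : GL (Fin N) K) : Matrix (Fin N) (Fin N) K) (π a) C.D.p1 = 1 :=
    C.tw_apply_p1 ha' 1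
  rw [h5] at h4
  exact one_ne_zero h4

end Cfsg.Agent.Lib.Helper8.AutDMm
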