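import Cfsg.Agent.Lib.Helper8.AutDMm.FactsB
import Mathlib

/-!
# `Ω⁻_{2κ+4}(F)`: the opposite Sylow subgroups, continued (helper8)
-/

set_option autoImplicit false

namespace Cfsg.Agent.Lib.Helper8.AutDMm

open Matrix Cfsg Cfsg.Agent.Lib.Helper5.GLBN Cfsg.Agent.Lib.Helper8.SpBN
open Cfsg.Agent.Lib.Helper8.Tw Cfsg.Agent.PSUT Cfsg.Agent.AutPSU
open Cfsg.Agent.Lib.Helper5.AutBN Cfsg.Agent.Lib.Helper8.AutSp Cfsg.Agent.Lib.Helper5.AutSU
open Cfsg.Agent.Lib.Helper5.AutDO Cfsg.Agent.Lib.Helper5.AutDM Cfsg.Agent.AutPM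
open Cfsg.Agent.Lib.Helper5.BN
open scoped MatrixGroups

variable {N : ℕ} {F K : Type*} [Field F] [Field K] [Fintype K] (C : MC N F K)

theorem nm_iff_val (x : Fin N) : C.NM x ↔ ((x : ℕ) ≠ C.κ + 1 ∧ (x : ℕ) ≠ C.κ + 2) :=
  ⟨fun h => C.NM_val h, fun h => C.NM_of_val h.1 h.2⟩

/-- a monomial element `n` with `n U n⁻¹ ∩ U = 1` has an opposite permutation -/
theorem isOpp_of_inf {n : Mm C} {π : Equiv.Perm (Fin N)}
    (hπ : IsMono ((gm C n : GL (Fin N) K) : Matrix (Fin N) (Fin N) K) π)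
    (h : cj n (UM C) ⊓ UM C = ⊥) : C.D.IsOpp π := by
  have hN := C.hN
  have hκ : C.D.κ = C.κ := rfl
  have hp1 : ((C.D.p1 : Fin N) : ℕ) = C.κ + 1 := C.D.p1_val
  have hp2 : ((C.D.p1.rev : Fin N) : ℕ) = C.κ + 2 := C.D.p1_rev_val
  have hv : ∀ x : Fin N, ((x.rev : Fin N) : ℕ) = N - (x + 1) := fun x => Fin.val_rev x
  have key1 : ∀ a : Fin N, (a : ℕ) ≤ C.κ → C.κ + 3 ≤ ((π a : Fin N) : ℕ) := by
    intro a ha
    have hNM : C.NM a := (nm_iff_val C a).2 ⟨by omega, by omega⟩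
    have h1 := not_lt_tw C hπ h a hNM (by rw [Fin.lt_def, hp1]; omega)
    have h2 := (nm_iff_val C (π a)).1 ((NM_perm_iff C hπ a).2 hNM)
    rw [Fin.lt_def, hp1] at h1
    omega
  have key2 : ∀ a : Fin N, C.κ + 3 ≤ (a : ℕ) → ((π a : Fin N) : ℕ) ≤ C.κ := by
    intro a ha
    have ha2 := a.2
    have h1 := key1 a.rev (by rw [hv]; omega)
    rw [perm_rev C hπ, hv] at h1
    have := (π a).2
    omega
  have key3 : ∀ a : Fin N, ((a : ℕ) = C.κ + 1 ∨ (a : ℕ) = C.κ + 2) →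
      (((π a : Fin N) : ℕ) = C.κ + 1 ∨ ((π a : Fin N) : ℕ) = C.κ + 2) := by
    intro a ha
    have h1 : a = C.D.p1 ∨ a = C.D.p1.rev := by
      rcases ha with ha | ha
      · exact Or.inl (Fin.ext (by rw [hp1]; exact ha))
      · exact Or.inr (Fin.ext (by rw [hp2]; exact ha))
    rcases (mid_perm_iff C hπ a).2 h1 with h2 | h2
    · left
      rw [h2, hp1]
    · right
      rw [h2, hp2]
  intro i j hij hlt
  have hij' := Fin.lt_def.1 hij
  have hlt' := Fin.lt_def.1 hlt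
  have hj2 := j.2
  by_cases hi1 : (i : ℕ) ≤ C.κ
  · exfalso
    have h1 := key1 i hi1
    by_cases hj1 : (j : ℕ) ≤ C.κ
    · refine not_lt_long C hπ h i j hij ?_ ((nm_iff_val C i).2 ⟨by omega, by omega⟩)
        ((nm_iff_val C j).2 ⟨by omega, by omega⟩) hlt
      apply fin_ne
      rw [hv]
      omega
    · by_cases hj3 : C.κ + 3 ≤ (j : ℕ)
      · have := key2 j hj3
        omega
      · have := key3 j (by omega)
        omega
  · by_cases hi3 : C.κ + 3 ≤ (i : ℕ)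
    · exfalso
      have h1 := key2 i hi3
      refine not_lt_long C hπ h i j hij ?_ ((nm_iff_val C i).2 ⟨by omega, by omega⟩)
        ((nm_iff_val C j).2 ⟨by omega, by omega⟩) hlt
      apply fin_ne
      rw [hv]
      omega
    · have h1 := key3 i (by omega)
      by_cases hj3 : C.κ + 3 ≤ (j : ℕ)
      · exfalso
        have := key2 j hj3
        omega
      · have h2 := key3 j (by omega)
        constructor
        · apply Fin.ext
          rw [hp1]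
          omega
        · apply Fin.ext
          rw [hp2]
          omega

/-- a monomial element `n` with `n U n⁻¹ ∩ U = 1` conjugates `U` onto `V` -/
theorem cj_UM_eq_VM_of_inf {n : Mm C} {π : Equiv.Perm (Fin N)}
    (hπ : IsMono ((gm C n : GL (Fin N) K) : Matrix (Fin N) (Fin N) K) π)
    (h : cj n (UM C) ⊓ UM C = ⊥) : cj n (UM C) = VM C := by
  obtain ⟨n0, -, -, hUV, -, -⟩ := exists_n0M C
  have h' : cj n⁻¹ (UM C) ⊓ UM C = ⊥ := by
    have e : cj n⁻¹ (UM C) ⊓ UM C = cj n⁻¹ (UM C ⊓ cj n (UM C)) := by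
      rw [cj_inf, cj_inv_cj, inf_comm]
    rw [e, inf_comm, h, cj_bot]
  have hπ' : IsMono ((gm C n⁻¹ : GL (Fin N) K) : Matrix (Fin N) (Fin N) K) π⁻¹ := by
    rw [gm_inv]
    exact hπ.inv
  have hopp := isOpp_of_inf C hπ' h'
  have hle : cj n (UM C) ≤ VM C := by
    intro x hx
    rw [mem_cj] at hx
    rw [mem_VM]
    have h1 := conj_UU_mem_VV_of_isQ C.D (n := ((n⁻¹ : Mm C) : SUm N K (RingHom.id K))) hπ' hopp
      (C.G0_le_OD (n⁻¹ * x * n).2) hx
    have e : ((n⁻¹ : Mm C) : SUm N K (RingHom.id K))⁻¹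
        * ((n⁻¹ * x * n : Mm C) : SUm N K (RingHom.id K))
        * ((n⁻¹ : Mm C) : SUm N K (RingHom.id K)) = (x : SUm N K (RingHom.id K)) := by
      push_cast
      group
    rwa [e] at h1
  have hcard : Nat.card ↥(cj n (UM C)) = Nat.card ↥(VM C) := by
    rw [card_cj, ← hUV, card_cj]
  exact Subgroup.eq_of_le_of_card_ge hle (le_of_eq hcard.symm)

/-- a conjugate of `U` meeting `B` trivially is a conjugate of `V` under `B` -/
theorem hopp (g : Mm C) (hg : cj g (UM C) ⊓ (bnM C).B = ⊥) :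
    ∃ b ∈ (bnM C).B, cj g (UM C) = cj b (VM C) := by
  obtain ⟨n, hn⟩ := exists_N_mem_D (bnM C) g
  rw [mem_D] at hn
  obtain ⟨b1, hb1, b2, hb2, rfl⟩ := hn
  have hnorm : ∀ b ∈ (bnM C).B, cj b (UM C) = UM C := by
    intro b hb
    apply cj_of_mem_normalizer
    rw [normalizer_UM]
    exact hb
  have e : cj (b1 * (n : Mm C) * b2) (UM C) = cj b1 (cj (n : Mm C) (UM C)) := by
    rw [cj_mul, ← cj_mul (b1 * (n : Mm C)) b2, hnorm b2 hb2]
  rw [e] at hg
  have hB1 : cj b1 (bnM C).B = (bnM C).B :=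
    cj_of_mem_normalizer (Subgroup.le_normalizer hb1)
  have h1 : cj (n : Mm C) (UM C) ⊓ (bnM C).B = ⊥ := by
    apply eq_bot_of_cj_eq_bot (g := b1)
    rw [cj_inf, hB1]
    exact hg
  have h2 : cj (n : Mm C) (UM C) ⊓ UM C = ⊥ := by
    rw [eq_bot_iff, ← h1]
    exact inf_le_inf_left _ (by rw [bnM_B]; exact UM_le_BM C)
  have hnN : (n : Mm C) ∈ NMm C := n.2
  obtain ⟨π, hπ⟩ := exists_mono_of_mem_NMm C hnN
  refine ⟨b1, hb1, ?_⟩
  rw [e, cj_UM_eq_VM_of_inf C hπ h2]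

end Cfsg.Agent.Lib.Helper8.AutDMm
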