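import Cfsg.Agent.Lib.Helper8.AutDMm.FactsC
import Cfsg.Agent.Lib.Helper5.AutSU.Facts3
import Cfsg.Agent.Lib.Helper8.SpBN.Blk
import Mathlib

/-!
# `Ω⁻_{2κ+4}(F)`: the minimal parabolic subgroups (helper8)

The negative fundamental root subgroups are the intersections of the minimal parabolic
subgroups with the lower unitriangular group.
-/

set_option autoImplicit false

namespace Cfsg.Agent.Lib.Helper8.AutDMm

open Matrix Cfsg Cfsg.Agent.Lib.Helper5.GLBN Cfsg.Agent.Lib.Helper8.SpBN
open Cfsg.Agent.Lib.Helper8.Tw Cfsg.Agent.PSUT Cfsg.Agent.AutPSU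
open Cfsg.Agent.Lib.Helper5.AutBN Cfsg.Agent.Lib.Helper8.AutSp Cfsg.Agent.Lib.Helper5.AutSU
open Cfsg.Agent.Lib.Helper5.AutDO Cfsg.Agent.Lib.Helper5.AutDM Cfsg.Agent.AutPM
open Cfsg.Agent.Lib.Helper5.BN
open scoped MatrixGroups

variable {N : ℕ} {F K : Type*} [Field F] [Field K] [Fintype K] (C : MC N F K)

/-! ### the chain nodes -/

/-- the block upper triangular subgroup of a chain node, in the model -/
noncomputable def QM (j : ℕ) : Subgroup (Mm C) := (QQ N K (RingHom.id K) j).subgroupOf C.G0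

theorem mem_QM {j : ℕ} {g : Mm C} :
    g ∈ QM C j ↔ (g : SUm N K (RingHom.id K)) ∈ QQ N K (RingHom.id K) j := Iff.rfl

theorem BM_le_QM (j : ℕ) : BM C ≤ QM C j := fun _ hg => BB_le_QQ j hg

theorem YC_eq_QM (j : ℕ) : YC C j = QM C j ⊓ VM C := Subgroup.ext fun _ => Iff.rfl

/-- a representative of a reflection lies in the block upper triangular subgroup of a chain
node only if it belongs to that node -/
theorem nM_mem_QM_iff (i : Fin (C.κ + 1)) {j : ℕ} (hj : j < C.κ) :
    nM C i ∈ QM C j ↔ (i : ℕ) = j := by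
  have hN := C.hN
  have hi2 := i.2
  have hm := isMono_nM C i
  rw [mem_QM, mem_QQ (by omega)]
  constructor
  · intro h
    by_contra hij
    by_cases hi : (i : ℕ) < C.κ
    · rw [rhoM_lt C _ hi] at hm
      obtain ⟨b, hb1, hb2⟩ := not_blk_rho (N := N) (i := i) (j := j) (by omega) (by omega) hij
      exact hm.apply_ne_zero b (h (rho N i b) b hb1 hb2)
    · rw [rhoM_tw C _ hi] at hm
      have hv := rhoT_val C ⟨C.κ, by omega⟩
      rw [if_pos rfl] at hv
      refine hm.apply_ne_zero ⟨C.κ, by omega⟩ (h _ _ ?_ ?_)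
      · rw [Fin.lt_def, hv]
        simp
      · rw [hv]
        unfold blk
        simp only
        omega
  · intro hij a b _ hn
    have hi : (i : ℕ) < C.κ := by omega
    rw [rhoM_lt C _ hi] at hm
    apply hm
    rintro rfl
    apply hn
    rw [← hij]
    exact blk_rho_self (by omega) b

/-- the block upper triangular subgroups are the minimal parabolic subgroups -/
theorem QM_eq_parabolic {j : ℕ} (hj : j < C.κ) :
    QM C j = (bnM C).parabolic {nC C j hj} := by
  have h := eq_parabolic_of_le (bnM C) (QM C j) (BM_le_QM C j)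
  have e : {s | s ∈ (bnM C).S ∧ s ∈ QM C j} = ({nC C j hj} : Set (Mm C)) := by
    ext s
    rw [bnM_S]
    constructor
    · rintro ⟨⟨i, rfl⟩, hs⟩
      have hi := (nM_mem_QM_iff C i hj).1 hs
      rw [Set.mem_singleton_iff, nM_lt C i (by omega)]
      congr 1
    · intro hs
      rw [Set.mem_singleton_iff] at hs
      rw [hs]
      have hi2 : j < C.κ + 1 := by omega
      have e1 : nM C ⟨j, hi2⟩ = nC C j hj := nM_lt C ⟨j, hi2⟩ hj
      refine ⟨⟨⟨j, hi2⟩, e1⟩, ?_⟩
      rw [← e1]
      exact (nM_mem_QM_iff C ⟨j, hi2⟩ hj).2 rfl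
  rw [e] at h
  exact h

/-- the negative root subgroup of a chain node -/
theorem YC_eq {j : ℕ} (hj : j < C.κ) :
    YC C j = (bnM C).parabolic {nC C j hj} ⊓ VM C := by
  rw [← QM_eq_parabolic C hj]
  exact YC_eq_QM C j

/-! ### the twisted node -/

/-- the levels of the blocks of the twisted node -/
def LT (x : Fin N) : ℕ :=
  if (x : ℕ) < C.κ then x else if (x : ℕ) ≤ C.κ + 3 then C.κ else (x : ℕ) - 3

theorem LT_mono : Monotone (LT C) := by
  intro x y hxy
  have h : (x : ℕ) ≤ y := hxy
  unfold LT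
  split_ifs <;> omega

/-- the block upper triangular subgroup of the twisted node, in the model -/
noncomputable def QT : Subgroup (Mm C) :=
  subgroupOfMul {g | BlkU (LT C) ((gm C g : GL (Fin N) K) : Matrix (Fin N) (Fin N) K)}
    (by
      show BlkU (LT C) ((gm C 1 : GL (Fin N) K) : Matrix (Fin N) (Fin N) K)
      rw [gm_one, Units.val_one]
      intro i j hij
      apply Matrix.one_apply_ne
      rintro rfl
      exact lt_irrefl _ hij)
    (fun a b ha hb => by
      show BlkU (LT C) ((gm C (a * b) : GL (Fin N) K) : Matrix (Fin N) (Fin N) K)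
      rw [gm_mul, Units.val_mul]
      exact BlkU.mul ha hb)

theorem mem_QT {g : Mm C} :
    g ∈ QT C ↔ BlkU (LT C) ((gm C g : GL (Fin N) K) : Matrix (Fin N) (Fin N) K) := Iff.rfl

theorem BM_le_QT : BM C ≤ QT C := by
  intro g hg
  rw [mem_QT]
  exact blkU_of_upper (LT_mono C) (mem_BB_iff_upper.1 hg)

theorem nTm_mem_QT : nTm C ∈ QT C := by
  rw [mem_QT]
  apply blkU_of_mono (isMono_nTm C)
  intro i
  have hN := C.hN
  have hi := i.2
  unfold LT
  rw [rhoT_val]
  split_ifs <;> omega

theorem nC_not_mem_QT {j : ℕ} (hj : j < C.κ) : nC C j hj ∉ QT C := by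
  have hN := C.hN
  intro h
  rw [mem_QT] at h
  have hm := isMono_nC C j hj
  have hv := rho_val_short (N := N) (i := j) (by omega) ⟨j, by omega⟩
  rw [if_pos rfl] at hv
  refine hm.apply_ne_zero ⟨j, by omega⟩ (h _ _ ?_)
  unfold LT
  rw [hv]
  simp only
  split_ifs <;> omega

/-- the block upper triangular subgroup of the twisted node is its minimal parabolic subgroup -/
theorem QT_eq_parabolic : QT C = (bnM C).parabolic {nTm C} := by
  have hN := C.hN
  have h := eq_parabolic_of_le (bnM C) (QT C) (BM_le_QT C)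
  have e : {s | s ∈ (bnM C).S ∧ s ∈ QT C} = ({nTm C} : Set (Mm C)) := by
    ext s
    rw [bnM_S]
    constructor
    · rintro ⟨⟨i, rfl⟩, hs⟩
      rw [Set.mem_singleton_iff]
      by_cases hi : (i : ℕ) < C.κ
      · exfalso
        rw [nM_lt C i hi] at hs
        exact nC_not_mem_QT C hi hs
      · exact nM_tw C i hi
    · intro hs
      rw [Set.mem_singleton_iff] at hs
      rw [hs]
      have hi2 : C.κ < C.κ + 1 := by omega
      exact ⟨⟨⟨C.κ, hi2⟩, nM_tw C ⟨C.κ, hi2⟩ (by simp)⟩, nTm_mem_QT C⟩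
  rw [e] at h
  exact h

theorem tMm_upT_mem_BM (s : K) : tMm C (upT s) ∈ BM C := UM_le_BM C (tMm_upT_mem_UM C s)

theorem YT_le_VM : YT C ≤ VM C := by
  intro g hg
  have hN := C.hN
  have hκ : C.D.κ = C.κ := rfl
  have hsh := (mem_YT_sh C).1 hg
  rw [mem_VM, mem_VV]
  constructor
  · intro a b hab
    apply hsh.2 a b (ne_of_lt hab)
    have ha0r : (((C.ia C.κ le_rfl).rev : Fin N) : ℕ) = C.κ + 3 := by
      rw [Fin.val_rev, C.ia_val]
      omega
    have hp1 := C.D.p1_val
    have hp2 := C.D.p1_rev_val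
    rw [hκ] at hp1 hp2
    have hab' := Fin.lt_def.1 hab
    unfold MC.PT
    rw [Fin.rev_rev]
    rintro (⟨rfl, rfl | rfl | rfl⟩ | ⟨rfl, rfl | rfl⟩)
    · rw [ha0r, hp1] at hab'; omega
    · rw [ha0r, hp2] at hab'; omega
    · rw [ha0r, C.ia_val] at hab'; omega
    · rw [hp1, C.ia_val] at hab'; omega
    · rw [hp2, C.ia_val] at hab'; omega
  · intro a
    exact hsh.1 a

/-- the negative root subgroup of the twisted node -/
theorem YT_eq' : YT C = (bnM C).parabolic {nTm C} ⊓ VM C := by
  have hN := C.hN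
  have hκ : C.D.κ = C.κ := rfl
  rw [← QT_eq_parabolic]
  apply le_antisymm
  · intro g hg
    refine Subgroup.mem_inf.2 ⟨?_, YT_le_VM C hg⟩
    obtain ⟨s, rfl⟩ := (mem_YT C).1 hg
    rw [tMm_loT]
    exact mul_mem (mul_mem (nTm_mem_QT C) (BM_le_QT C (tMm_upT_mem_BM C _)))
      (inv_mem (nTm_mem_QT C))
  · intro g hg
    obtain ⟨hQ, hV⟩ := Subgroup.mem_inf.1 hg
    rw [mem_YT_sh]
    rw [mem_QT] at hQ
    obtain ⟨hlo, hdiag⟩ := mem_VV.1 ((mem_VM C).1 hV)
    refine ⟨hdiag, ?_⟩
    intro a b hab hP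
    rcases lt_or_gt_of_ne hab with h | h
    · exact hlo a b h
    · by_contra hne
      have hlev : ¬ LT C b < LT C a := fun hl => hne (hQ a b hl)
      have h' := Fin.lt_def.1 h
      have ha2 := a.2
      have ha0r : (((C.ia C.κ le_rfl).rev : Fin N) : ℕ) = C.κ + 3 := by
        rw [Fin.val_rev, C.ia_val]
        omega
      have hp1 := C.D.p1_val
      have hp2 := C.D.p1_rev_val
      rw [hκ] at hp1 hp2
      have hmid : C.κ ≤ (b : ℕ) ∧ (a : ℕ) ≤ C.κ + 3 := by
        unfold LT at hlev
        split_ifs at hlev <;> omega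
      -- the entry at the two middle coordinates vanishes
      have hmm : ¬ ((a : ℕ) = C.κ + 2 ∧ (b : ℕ) = C.κ + 1) := by
        rintro ⟨e1, e2⟩
        have ea : a = C.D.p1.rev := Fin.ext (by rw [hp2]; exact e1)
        have eb : b = C.D.p1 := Fin.ext (by rw [hp1]; exact e2)
        have hq := (mem_OD.1 (C.G0_le_OD g.2)).lower_mid hlo C.D.p1 (by rw [hp1, hp2])
        rw [hdiag, one_mul] at hq
        apply hne
        rw [ea, eb]
        exact hq
      apply hP
      unfold MC.PT
      rw [Fin.rev_rev]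
      by_cases hb : (b : ℕ) = C.κ
      · right
        refine ⟨Fin.ext (by rw [C.ia_val]; exact hb), ?_⟩
        by_cases ha : (a : ℕ) = C.κ + 3
        · exfalso
          apply hP
          unfold MC.PT
          rw [Fin.rev_rev]
          left
          exact ⟨Fin.ext (by rw [ha0r]; exact ha), Or.inr (Or.inr (Fin.ext (by rw [C.ia_val]; exact hb)))⟩
        · by_cases ha1 : (a : ℕ) = C.κ + 1
          · exact Or.inl (Fin.ext (by rw [hp1]; exact ha1))
          · exact Or.inr (Fin.ext (by rw [hp2]; omega))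
      · left
        have ha : (a : ℕ) = C.κ + 3 := by omega
        refine ⟨Fin.ext (by rw [ha0r]; exact ha), ?_⟩
        by_cases hb1 : (b : ℕ) = C.κ + 1
        · exact Or.inl (Fin.ext (by rw [hp1]; exact hb1))
        · exact Or.inr (Or.inl (Fin.ext (by rw [hp2]; omega)))

/-- **the negative fundamental root subgroups are the intersections of the minimal parabolic
subgroups with the lower unitriangular group** -/
theorem YM_eq (i : Fin (C.κ + 1)) :
    YM C i = (bnM C).parabolic {nM C i} ⊓ VM C := by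
  by_cases h : (i : ℕ) < C.κ
  · rw [YM_lt C i h, nM_lt C i h]
    exact YC_eq C h
  · rw [YM_tw C i h, nM_tw C i h]
    exact YT_eq' C

end Cfsg.Agent.Lib.Helper8.AutDMm
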