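import Cfsg.Agent.Lib.Helper8.AutDMm.FactsD
import Cfsg.Agent.Lib.Helper8.AutDm.NormalFormA
import Cfsg.Agent.Lib.Helper5.AutDM.Perfect
import Cfsg.Agent.Lib.Helper5.AutSU.Facts5
import Mathlib

/-!
# `Ω⁻_{2κ+4}(F)`: the commutation of the positive fundamental root subgroups (helper8)
-/

set_option autoImplicit false

namespace Cfsg.Agent.Lib.Helper8.AutDMm

open Matrix Cfsg Cfsg.Agent.Lib.Helper5.GLBN Cfsg.Agent.Lib.Helper8.SpBN
open Cfsg.Agent.Lib.Helper8.Tw Cfsg.Agent.PSUT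
open Cfsg.Agent.AutPSU (upT loT dgT moT Quad)
open Cfsg.Agent.Lib.Helper5.AutBN Cfsg.Agent.Lib.Helper8.AutSp Cfsg.Agent.Lib.Helper5.AutSU
open Cfsg.Agent.Lib.Helper5.AutDO Cfsg.Agent.Lib.Helper5.AutDM Cfsg.Agent.AutPM
open Cfsg.Agent.Lib.Helper5.BN
open scoped MatrixGroups

variable {N : ℕ} {F K : Type*} [Field F] [Field K] [Fintype K] (C : MC N F K)

/-- the negative root elements of a chain node -/
theorem mem_YC_iff {j : ℕ} (hj : j < C.κ) {g : Mm C} :
    g ∈ YC C j ↔ ∃ t : F, g = sMm C j hj (loT t) := by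
  rw [mem_YC, mem_Xm_short_iff idinv (C.hj_of_lt hj)]
  constructor
  · rintro ⟨c, hc⟩
    have hent : ((gl (xmS idinv j (C.hj_of_lt hj) c) : GL (Fin N) K) :
        Matrix (Fin N) (Fin N) K) (C.ia (j + 1) hj) (C.ia j (le_of_lt hj)) = c := by
      rw [gl_xmS]
      exact xS_apply_self _ _ _ _ (C.quadC j hj).h00
        (fun e => (C.quadC j hj).h01 (by
          have e' : (C.ia j (le_of_lt hj)).rev = C.ia (j + 1) hj := e
          rw [← e', Fin.rev_rev])) c
    have hfix : C.cj c = c := by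
      have h3 := gm_cj C g (C.ia (j + 1) hj) (C.ia j (le_of_lt hj))
      unfold gm at h3
      rw [C.NM_ia j (le_of_lt hj), C.NM_ia (j + 1) hj, hc, hent] at h3
      exact h3
    obtain ⟨t, rfl⟩ := C.hfix c hfix
    refine ⟨t, Subtype.ext ?_⟩
    rw [hc, sMm_loT_coe]
  · rintro ⟨t, rfl⟩
    exact ⟨C.ι t, sMm_loT_coe C j hj t⟩

/-- elements of shapes which do not compose commute -/
theorem comm_of_sh {P P' : Fin N → Fin N → Prop} {g h : SUm N K (RingHom.id K)}
    (hg : g ∈ Sh N K (RingHom.id K) P) (hh : h ∈ Sh N K (RingHom.id K) P')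
    (h1 : ∀ a b c, P a b → P' b c → False) (h2 : ∀ a b c, P' a b → P b c → False) :
    g * h = h * g := by
  have key : ∀ {Q Q' : Fin N → Fin N → Prop} {x y : SUm N K (RingHom.id K)},
      x ∈ Sh N K (RingHom.id K) Q → y ∈ Sh N K (RingHom.id K) Q' →
      (∀ a b c, Q a b → Q' b c → False) →
      (((gl x : GL (Fin N) K) : Matrix (Fin N) (Fin N) K) - 1)
        * (((gl y : GL (Fin N) K) : Matrix (Fin N) (Fin N) K) - 1) = 0 := by
    intro Q Q' x y hx hy hQ
    ext a c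
    rw [Matrix.mul_apply, Matrix.zero_apply]
    apply Finset.sum_eq_zero
    intro b _
    by_cases hab : a = b
    · rw [hab, Matrix.sub_apply, hx.1, Matrix.one_apply_eq, sub_self, zero_mul]
    · by_cases hbc : b = c
      · rw [hbc, Matrix.sub_apply _ _ c c, hy.1, Matrix.one_apply_eq, sub_self, mul_zero]
      · by_cases hq : Q a b
        · have hq' : ¬ Q' b c := fun h' => hQ a b c hq h'
          rw [Matrix.sub_apply _ _ b c, hy.2 b c hbc hq', Matrix.one_apply_ne hbc, sub_self,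
            mul_zero]
        · rw [Matrix.sub_apply, hx.2 a b hab hq, Matrix.one_apply_ne hab, sub_self, zero_mul]
  apply gl_injective
  apply Units.ext
  rw [gl_mul, gl_mul, Units.val_mul, Units.val_mul]
  exact comm_of_mul_zero (key hg hh h1) (key hh hg h2)

/-- chain nodes: the positive root subgroups of non-adjacent nodes commute -/
theorem comm_XC_XC {i j : ℕ} (hi : i < C.κ) (hj : j < C.κ) (hij : i ≠ j) (h1 : i + 1 ≠ j)
    (h2 : j + 1 ≠ i) {x y : Mm C} (hx : x ∈ XC C i) (hy : y ∈ XC C j) : x * y = y * x := by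
  have hN := C.hN
  have hi2 : 2 * i + 2 ≤ N := by omega
  have hj2 : 2 * j + 2 ≤ N := by omega
  obtain ⟨hx1, hx2⟩ := (mem_Xp hi2).1 ((mem_XC C).1 hx)
  obtain ⟨hy1, hy2⟩ := (mem_Xp hj2).1 ((mem_XC C).1 hy)
  apply gm_injective C
  apply Units.ext
  rw [gm_mul, gm_mul, Units.val_mul, Units.val_mul]
  exact up_up_comm hi2 hj2 h1 h2 hx1 hx2 hy1 hy2 hij

/-- a chain node not adjacent to the twisted node: the positive root subgroups commute -/
theorem comm_XC_XT {j : ℕ} (hj : j + 1 < C.κ) {x y : Mm C} (hx : x ∈ XC C j)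
    (hy : y ∈ XT C) : x * y = y * x := by
  have hN := C.hN
  have hκ : C.D.κ = C.κ := rfl
  have hj' : j < C.κ := by omega
  obtain ⟨t, rfl⟩ := (mem_XC_iff C hj').1 hx
  have hxs : ((sMm C j hj' (upT t) : Mm C) : SUm N K (RingHom.id K))
      ∈ Sh N K (RingHom.id K) (PS (C.ia j (le_of_lt hj')) (C.ia (j + 1) hj')) := by
    rw [sMm_coe, C.sM_upT]
    exact xQ_mem_Sh _ _
  have hys := (mem_XT_sh C).1 hy
  apply Subtype.ext
  have ha0r : (((C.ia C.κ le_rfl).rev : Fin N) : ℕ) = C.κ + 3 := by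
    rw [Fin.val_rev, C.ia_val]
    omega
  have hp1 := C.D.p1_val
  have hp2 := C.D.p1_rev_val
  rw [hκ] at hp1 hp2
  have hv : ∀ x : Fin N, ((x.rev : Fin N) : ℕ) = N - (x + 1) := fun x => Fin.val_rev x
  apply comm_of_sh hxs hys
  · intro a b c hab hbc
    have hb : (b : ℕ) = j + 1 ∨ (b : ℕ) = N - (j + 1) := by
      rcases hab with ⟨-, rfl⟩ | ⟨-, rfl⟩
      · left; rfl
      · right; rw [hv, C.ia_val]
    have hb' : (b : ℕ) = C.κ ∨ (b : ℕ) = C.κ + 1 ∨ (b : ℕ) = C.κ + 2 := by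
      unfold MC.PT at hbc
      rcases hbc with ⟨rfl, -⟩ | ⟨-, rfl | rfl⟩
      · left; rfl
      · right; left; exact hp1
      · right; right; exact hp2
    omega
  · intro a b c hab hbc
    have hb : (b : ℕ) = j ∨ (b : ℕ) = N - (j + 1 + 1) := by
      rcases hbc with ⟨rfl, -⟩ | ⟨rfl, -⟩
      · left; rfl
      · right; rw [hv, C.ia_val]
    have hb' : (b : ℕ) = C.κ + 1 ∨ (b : ℕ) = C.κ + 2 ∨ (b : ℕ) = C.κ + 3 := by
      unfold MC.PT at hab
      rcases hab with ⟨-, rfl | rfl | rfl⟩ | ⟨rfl, -⟩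
      · left; exact hp1
      · right; left; exact hp2
      · right; right; exact ha0r
      · right; right; exact ha0r
    omega

/-- adjacent chain nodes: the positive root subgroups do not commute -/
theorem adj_ncomm_chain {i : ℕ} (hi : i + 1 < C.κ) :
    ∃ x ∈ XC C i, ∃ y ∈ XC C (i + 1), x * y ≠ y * x := by
  have hN := C.hN
  have hi' : i < C.κ := by omega
  refine ⟨sMm C i hi' (upT 1), (mem_XC_iff C hi').2 ⟨1, rfl⟩, sMm C (i + 1) hi (upT 1),
    (mem_XC_iff C hi).2 ⟨1, rfl⟩, ?_⟩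
  intro e
  have e' := congrArg (fun g => ((gm C g : GL (Fin N) K) : Matrix (Fin N) (Fin N) K)) e
  simp only [gm_mul, Units.val_mul, gm_sMm_upT, map_one] at e'
  rw [xS_coe_eq _ _ _ (C.quadC i hi').h11, xS_coe_eq _ _ _ (C.quadC (i + 1) hi).h11] at e'
  refine Cfsg.Agent.Lib.Helper8.AutDm.tri_ncomm (tri_of_lt ?_ ?_ ?_ ?_ ?_ ?_) e' <;>
    simp only [MC.ia_val] <;> omega

/-- the last chain node and the twisted node: the positive root subgroups do not commute -/
theorem adj_ncomm_tw {i : ℕ} (hi : i + 1 = C.κ) :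
    ∃ x ∈ XC C i, ∃ y ∈ XT C, x * y ≠ y * x := by
  have hN := C.hN
  have hκ : C.D.κ = C.κ := rfl
  have hi' : i < C.κ := by omega
  refine ⟨sMm C i hi' (upT 1), (mem_XC_iff C hi').2 ⟨1, rfl⟩, tMm C (upT 1),
    (mem_XT C).2 ⟨1, rfl⟩, ?_⟩
  intro e
  have hp1 := C.D.p1_val
  have hp2 := C.D.p1_rev_val
  rw [hκ] at hp1 hp2
  have hv : ∀ x : Fin N, ((x.rev : Fin N) : ℕ) = N - (x + 1) := fun x => Fin.val_rev x
  have e' := congrArg (fun g => ((gm C g : GL (Fin N) K) : Matrix (Fin N) (Fin N) K)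
    (C.ia i (le_of_lt hi')) C.D.p1) e
  simp only [gm_mul, Units.val_mul] at e'
  have hy : gm C (tMm C (upT 1)) = gl (C.tw (C.NM_ia C.κ le_rfl) 1) := by
    unfold gm
    rw [tMm_upT_coe]
  have ia_eq : C.ia (i + 1) hi' = C.ia C.κ le_rfl := Fin.ext hi
  rw [hy, C.mul_tw_apply, gm_sMm_upT, mul_xS_apply _ _ _ _ _ (C.quadC i hi').h11,
    C.tw_apply, map_one] at e'
  have n1 : C.ia i (le_of_lt hi') ≠ C.D.p1 := fin_ne (by rw [C.ia_val, hp1]; omega)
  have n2 : C.D.p1 ≠ C.ia C.κ le_rfl := fin_ne (by rw [C.ia_val, hp1]; omega)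
  have n3 : C.D.p1 ≠ (C.ia i (le_of_lt hi')).rev := fin_ne (by rw [hv, C.ia_val, hp1]; omega)
  have n4 : C.D.p1 ≠ C.D.p1.rev := fin_ne (by rw [hp1, hp2]; omega)
  have n5 : C.D.p1 ≠ (C.ia C.κ le_rfl).rev := fin_ne (by rw [hv, C.ia_val, hp1]; omega)
  have n6 : C.ia i (le_of_lt hi') ≠ C.ia C.κ le_rfl := fin_ne (by rw [C.ia_val, C.ia_val]; omega)
  have n7 : C.ia i (le_of_lt hi') ≠ (C.ia C.κ le_rfl).rev :=
    fin_ne (by rw [hv, C.ia_val, C.ia_val]; omega)
  have n8 : C.D.p1 ≠ C.ia (i + 1) hi' := by rw [ia_eq]; exact n2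
  simp only [xS_apply _ _ _ _ (C.quadC i hi').h11] at e'
  simp only [n1, n2, n3, n4, n5, n6, n7, n8, n1.symm, n2.symm, n3.symm, n4.symm, n5.symm,
    n6.symm, n7.symm, n8.symm, ia_eq, if_true, if_false, and_true, and_false, true_and,
    false_and, and_self, add_zero, zero_add, mul_one, one_mul, zero_mul, mul_zero, neg_zero,
    sub_zero, ite_self] at e'
  revert e'
  simp

end Cfsg.Agent.Lib.Helper8.AutDMm
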