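import Cfsg.Agent.Lib.Helper8.AutDMm.FactsE
import Cfsg.Agent.Lib.Helper8.AutSp.PathAut
import Cfsg.Agent.Lib.Helper5.AutSU.NormalForm
import Mathlib

/-!
# `Ω⁻_{2κ+4}(F)`: the normal form of an automorphism of the central quotient (helper8)

Every automorphism of the central quotient of the model is, after composition with an inner
automorphism, one which fixes the images of `U`, `V`, `B` and of every fundamental root subgroup.
The commutation of the positive and negative root subgroups of distinct nodes and the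
non-commutation modulo the centre of opposite root subgroups are hypotheses here.
-/

set_option autoImplicit false

namespace Cfsg.Agent.Lib.Helper8.AutDMm

open Matrix Cfsg Cfsg.Agent.Lib.Helper5.GLBN Cfsg.Agent.Lib.Helper8.SpBN
open Cfsg.Agent.Lib.Helper8.Tw Cfsg.Agent.PSUT
open Cfsg.Agent.AutPSU (upT loT dgT moT Quad)
open Cfsg.Agent.Lib.Helper5.AutBN Cfsg.Agent.Lib.Helper8.AutSp Cfsg.Agent.Lib.Helper5.AutSU
open Cfsg.Agent.Lib.Helper5.AutDO Cfsg.Agent.Lib.Helper5.AutDM Cfsg.Agent.AutPM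
open Cfsg.Agent.Lib.Helper5.BN
open scoped MatrixGroups

variable {N : ℕ} {F K : Type*} [Field F] [Field K] [Fintype K] (C : MC N F K)

theorem XM_le_UM (i : Fin (C.κ + 1)) : XM C i ≤ UM C := (rdataM C).X_le i

theorem UM_inf_ker {Q : Type*} [Group Q] (f : Mm C →* Q)
    (hker : f.ker ≤ Subgroup.center (Mm C)) : UM C ⊓ f.ker = ⊥ := by
  rw [eq_bot_iff, ← UM_inf_center C]
  exact inf_le_inf_left _ hker

/-- the central quotient is injective on `U` -/
theorem f_inj_UM {Q : Type*} [Group Q] (f : Mm C →* Q)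
    (hker : f.ker ≤ Subgroup.center (Mm C)) {u u' : Mm C} (hu : u ∈ UM C)
    (hu' : u' ∈ UM C) (h : f u = f u') : u = u' := by
  have h0 : u⁻¹ * u' ∈ f.ker := by
    rw [MonoidHom.mem_ker, map_mul, map_inv, h, inv_mul_cancel]
  have h1 : u⁻¹ * u' ∈ UM C ⊓ f.ker := Subgroup.mem_inf.2 ⟨mul_mem (inv_mem hu) hu', h0⟩
  rw [UM_inf_ker C f hker, Subgroup.mem_bot] at h1
  exact inv_mul_eq_one.1 h1

theorem not_commIm {Q : Type*} [Group Q] (f : Mm C →* Q)
    (hker : f.ker ≤ Subgroup.center (Mm C)) {A B : Subgroup (Mm C)}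
    (hA : A ≤ UM C) (hB : B ≤ UM C) (h : ∃ x ∈ A, ∃ y ∈ B, x * y ≠ y * x) :
    ¬ CommIm f A B := by
  intro hc
  obtain ⟨x, hx, y, hy, hne⟩ := h
  apply hne
  apply f_inj_UM C f hker (mul_mem (hA hx) (hB hy)) (mul_mem (hB hy) (hA hx))
  rw [map_mul, map_mul]
  exact hc _ (Subgroup.mem_map_of_mem f hx) _ (Subgroup.mem_map_of_mem f hy)

/-- the images of the positive root subgroups of two distinct nodes commute exactly when the
nodes are not adjacent -/
theorem commIm_iff {Q : Type*} [Group Q] (f : Mm C →* Q)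
    (hker : f.ker ≤ Subgroup.center (Mm C)) (i j : Fin (C.κ + 1)) (hij : i ≠ j) :
    CommIm f (XM C i) (XM C j) ↔ ¬ PAdj i j := by
  have hi2 := i.2
  have hj2 := j.2
  have hij' : (i : ℕ) ≠ j := fun e => hij (Fin.ext e)
  constructor
  · intro hc hadj
    rcases hadj with h | h
    · by_cases hj : (j : ℕ) < C.κ
      · have hn := adj_ncomm_chain C (i := i) (by omega)
        rw [h] at hn
        rw [XM_lt C i (by omega), XM_lt C j hj] at hc
        exact not_commIm C f hker (XC_le_UM C _) (XC_le_UM C _) hn hc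
      · have hn := adj_ncomm_tw C (i := i) (by omega)
        rw [XM_lt C i (by omega), XM_tw C j hj] at hc
        exact not_commIm C f hker (XC_le_UM C _) (XT_le_UM C) hn hc
    · by_cases hi : (i : ℕ) < C.κ
      · have hn := adj_ncomm_chain C (i := j) (by omega)
        rw [h] at hn
        rw [XM_lt C i hi, XM_lt C j (by omega)] at hc
        exact not_commIm C f hker (XC_le_UM C _) (XC_le_UM C _) hn (commIm_symm f hc)
      · have hn := adj_ncomm_tw C (i := j) (by omega)
        rw [XM_lt C j (by omega), XM_tw C i hi] at hc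
        exact not_commIm C f hker (XC_le_UM C _) (XT_le_UM C) hn (commIm_symm f hc)
  · intro hn
    unfold PAdj at hn
    apply commIm_of_comm
    intro x hx y hy
    by_cases hi : (i : ℕ) < C.κ
    · rw [XM_lt C i hi] at hx
      by_cases hj : (j : ℕ) < C.κ
      · rw [XM_lt C j hj] at hy
        exact comm_XC_XC C hi hj hij' (by omega) (by omega) hx hy
      · rw [XM_tw C j hj] at hy
        exact comm_XC_XT C (by omega) hx hy
    · rw [XM_tw C i hi] at hx
      have hj : (j : ℕ) < C.κ := by omega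
      rw [XM_lt C j hj] at hy
      exact (comm_XC_XT C (by omega) hy hx).symm

/-! ### the cardinalities of the root subgroups -/

theorem card_XT : Nat.card (XT C) = Nat.card K := by
  have hb : Function.Bijective (fun s : K => (⟨tMm C (upT s), ⟨s, rfl⟩⟩ : XT C)) := by
    constructor
    · intro s s' h
      have h1 : tMm C (upT s) = tMm C (upT s') := congrArg Subtype.val h
      have h2 := congrArg (fun g : Mm C => ((gm C g : GL (Fin N) K) :
        Matrix (Fin N) (Fin N) K) (C.ia C.κ le_rfl) C.D.p1) h1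
      have e : ∀ u : K, ((gm C (tMm C (upT u)) : GL (Fin N) K) :
          Matrix (Fin N) (Fin N) K) (C.ia C.κ le_rfl) C.D.p1 = u := by
        intro u
        unfold gm
        rw [tMm_upT_coe]
        exact C.tw_apply_p1 _ u
      simp only [e] at h2
      exact h2
    · rintro ⟨g, s, rfl⟩
      exact ⟨s, rfl⟩
  exact (Nat.card_congr (Equiv.ofBijective _ hb)).symm

theorem card_XC {j : ℕ} (hj : j < C.κ) : Nat.card (XC C j) = Nat.card F := by
  have hb : Function.Bijective (fun t : F => (⟨sMm C j hj (upT t),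
      (mem_XC_iff C hj).2 ⟨t, rfl⟩⟩ : XC C j)) := by
    constructor
    · intro t t' h
      have h1 : sMm C j hj (upT t) = sMm C j hj (upT t') := congrArg Subtype.val h
      have h2 := congrArg (fun g : Mm C => ((gm C g : GL (Fin N) K) :
        Matrix (Fin N) (Fin N) K) (C.ia j (le_of_lt hj)) (C.ia (j + 1) hj)) h1
      have e : ∀ u : F, ((gm C (sMm C j hj (upT u)) : GL (Fin N) K) :
          Matrix (Fin N) (Fin N) K) (C.ia j (le_of_lt hj)) (C.ia (j + 1) hj) = C.ι u := by
        intro u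
        rw [gm_sMm_upT]
        exact xS_apply_self _ _ _ _ (C.quadC j hj).h11
          (fun e => (C.quadC j hj).h01 e.symm) _
      simp only [e] at h2
      exact C.ι.injective h2
    · rintro ⟨g, hg⟩
      obtain ⟨t, rfl⟩ := (mem_XC_iff C hj).1 hg
      exact ⟨t, rfl⟩
  exact (Nat.card_congr (Equiv.ofBijective _ hb)).symm

include C in
theorem card_F_ne : Nat.card F ≠ Nat.card K := by
  haveI : Finite F := Finite.of_injective C.ι C.ι.injective
  haveI : Fintype F := Fintype.ofFinite F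
  have hns : ¬ Function.Surjective C.ι := by
    intro hs
    obtain ⟨x, hx⟩ := C.hne
    obtain ⟨a, rfl⟩ := hs x
    exact hx (C.hι a)
  rw [Nat.card_eq_fintype_card, Nat.card_eq_fintype_card]
  exact ne_of_lt (Fintype.card_lt_of_injective_not_surjective C.ι C.ι.injective hns)

theorem card_map_of_le_UM {Q : Type*} [Group Q] (f : Mm C →* Q)
    (hker : f.ker ≤ Subgroup.center (Mm C)) {A : Subgroup (Mm C)} (hA : A ≤ UM C) :
    Nat.card (A.map f) = Nat.card A := by
  have hb : Function.Bijective (fun a : A => (⟨f a, Subgroup.mem_map_of_mem f a.2⟩ : A.map f)) := by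
    constructor
    · intro a a' h
      have h1 : f a = f a' := congrArg Subtype.val h
      exact Subtype.ext (f_inj_UM C f hker (hA a.2) (hA a'.2) h1)
    · rintro ⟨_, a, ha, rfl⟩
      exact ⟨⟨a, ha⟩, rfl⟩
  exact (Nat.card_congr (Equiv.ofBijective _ hb)).symm

/-- **The normal form.**  Every automorphism of the central quotient of the model of
`Ω⁻_{2κ+4}(F)` is, up to an inner automorphism, one which fixes the images of `U`, `V`, `B` and of
all fundamental root subgroups. -/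
theorem mm_normal_form (p : ℕ) [Fact p.Prime] [CharP K p] {Q : Type*} [Group Q]
    (f : Mm C →* Q) (hf : Function.Surjective f)
    (hker : f.ker ≤ Subgroup.center (Mm C))
    (hcomm : ∀ i j, i ≠ j → ∀ x ∈ XM C i, ∀ y ∈ YM C j, x * y = y * x)
    (hncomm : ∀ i, ∃ x ∈ XM C i, ∃ y ∈ YM C i, f (x * y) ≠ f (y * x))
    (θ : Q ≃* Q) :
    ∃ x : Q,
      ((UM C).map f).map (θ.trans (MulAut.conj x⁻¹)).toMonoidHom = (UM C).map f ∧
      ((VM C).map f).map (θ.trans (MulAut.conj x⁻¹)).toMonoidHom = (VM C).map f ∧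
      ((BM C).map f).map (θ.trans (MulAut.conj x⁻¹)).toMonoidHom = (BM C).map f ∧
      (∀ i, ((XM C i).map f).map (θ.trans (MulAut.conj x⁻¹)).toMonoidHom = (XM C i).map f) ∧
      (∀ i, ((YM C i).map f).map (θ.trans (MulAut.conj x⁻¹)).toMonoidHom = (YM C i).map f) := by
  haveI : Finite Q := Finite.of_surjective f hf
  obtain ⟨n0, -, -, hUV, hVU, hXY⟩ := exists_n0M C
  obtain ⟨x, ρ, hU, hV, hB, -, hXp, hXm⟩ := exists_normal_form_push (bnM C) f hf
    (le_trans hker (center_le_B C)) p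
    (nM C) (UM C) (VM C) n0 (XM C) (YM C)
    (nM_injective C) (bnM_S C).symm (isPGroup_UM C p) (index_UM C p)
    (by rw [bnM_B]; exact UM_normal C) (by rw [bnM_B]; exact UM_le_BM C)
    (exists_TU C) (UM_inf_ker C f hker) hUV hVU
    (by rw [bnM_B]; exact BM_inf_VM C) (hopp C)
    (YM_eq C) (fun i => (hXY i).symm) hcomm hncomm θ
  have hadj : ∀ i j, PAdj (ρ i) (ρ j) ↔ PAdj i j := by
    intro i j
    by_cases hij : i = j
    · subst hij
      unfold PAdj
      omega
    · have h1 := commIm_iff C f hker i j hij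
      have h2 := commIm_iff C f hker (ρ i) (ρ j) (fun e => hij (ρ.injective e))
      have h3 := commIm_transport f (θ.trans (MulAut.conj x⁻¹)) (hXp i) (hXp j)
      rw [← not_iff_not, ← h2, ← h1]
      exact h3.symm
  have hρ : ρ = 1 := by
    rcases path_aut ρ hadj with h | h
    · exact h
    · by_cases hκ : C.κ = 0
      · ext i
        have := i.2
        have := (ρ i).2
        rw [Equiv.Perm.one_apply]
        omega
      · exfalso
        have hlast : C.κ < C.κ + 1 := by omega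
        have H := hXp ⟨C.κ, hlast⟩
        rw [h] at H
        have e0 : (((Fin.revPerm (⟨C.κ, hlast⟩ : Fin (C.κ + 1)) : Fin (C.κ + 1)) : ℕ)) = 0 := by
          rw [Fin.revPerm_apply, Fin.val_rev]
          simp
        rw [XM_tw C ⟨C.κ, hlast⟩ (by simp), XM_lt C _ (by rw [e0]; omega)] at H
        have hc1 : Nat.card (((XT C).map f).map (θ.trans (MulAut.conj x⁻¹)).toMonoidHom)
            = Nat.card K := by
          rw [Subgroup.card_map_of_injective (θ.trans (MulAut.conj x⁻¹)).injective,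
            card_map_of_le_UM C f hker (XT_le_UM C), card_XT]
        rw [H, card_map_of_le_UM C f hker (XC_le_UM C _), card_XC C (by rw [e0]; omega)] at hc1
        exact card_F_ne C hc1
  subst hρ
  refine ⟨x, hU, hV, ?_, hXp, hXm⟩
  rw [← bnM_B]
  exact hB

/-- **The normal form, elementwise.** -/
theorem mm_normal_form_el (p : ℕ) [Fact p.Prime] [CharP K p] {Q : Type*} [Group Q]
    (f : Mm C →* Q) (hf : Function.Surjective f)
    (hker : f.ker ≤ Subgroup.center (Mm C))
    (hcomm : ∀ i j, i ≠ j → ∀ x ∈ XM C i, ∀ y ∈ YM C j, x * y = y * x)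
    (hncomm : ∀ i, ∃ x ∈ XM C i, ∃ y ∈ YM C i, f (x * y) ≠ f (y * x))
    (θ : Q ≃* Q) :
    ∃ x : Q,
      (∀ i (hi : i < C.κ) (u : F), ∃ v : F, (θ.trans (MulAut.conj x⁻¹)) (f (sMm C i hi (upT u)))
        = f (sMm C i hi (upT v))) ∧
      (∀ i (hi : i < C.κ) (u : F), ∃ v : F, (θ.trans (MulAut.conj x⁻¹)) (f (sMm C i hi (loT u)))
        = f (sMm C i hi (loT v))) ∧
      (∀ u : K, ∃ v : K, (θ.trans (MulAut.conj x⁻¹)) (f (tMm C (upT u))) = f (tMm C (upT v))) ∧
      (∀ u : K, ∃ v : K, (θ.trans (MulAut.conj x⁻¹)) (f (tMm C (loT u))) = f (tMm C (loT v))) := by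
  obtain ⟨x, -, -, -, hX, hY⟩ := mm_normal_form C p f hf hker hcomm hncomm θ
  refine ⟨x, ?_, ?_, ?_, ?_⟩
  · intro i hi u
    have hi2 : i < C.κ + 1 := by omega
    have h1 : (θ.trans (MulAut.conj x⁻¹)) (f (sMm C i hi (upT u)))
        ∈ ((XM C ⟨i, hi2⟩).map f).map (θ.trans (MulAut.conj x⁻¹)).toMonoidHom :=
      ⟨_, Subgroup.mem_map_of_mem f (by
        rw [XM_lt C ⟨i, hi2⟩ hi]
        exact (mem_XC_iff C hi).2 ⟨u, rfl⟩), rfl⟩
    rw [hX, XM_lt C ⟨i, hi2⟩ hi] at h1
    obtain ⟨y, hy, e⟩ := h1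
    obtain ⟨v, rfl⟩ := (mem_XC_iff C hi).1 hy
    exact ⟨v, e.symm⟩
  · intro i hi u
    have hi2 : i < C.κ + 1 := by omega
    have h1 : (θ.trans (MulAut.conj x⁻¹)) (f (sMm C i hi (loT u)))
        ∈ ((YM C ⟨i, hi2⟩).map f).map (θ.trans (MulAut.conj x⁻¹)).toMonoidHom :=
      ⟨_, Subgroup.mem_map_of_mem f (by
        rw [YM_lt C ⟨i, hi2⟩ hi]
        exact (mem_YC_iff C hi).2 ⟨u, rfl⟩), rfl⟩
    rw [hY, YM_lt C ⟨i, hi2⟩ hi] at h1
    obtain ⟨y, hy, e⟩ := h1
    obtain ⟨v, rfl⟩ := (mem_YC_iff C hi).1 hy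
    exact ⟨v, e.symm⟩
  · intro u
    have hi2 : C.κ < C.κ + 1 := by omega
    have hnk : ¬ ((⟨C.κ, hi2⟩ : Fin (C.κ + 1)) : ℕ) < C.κ := by simp
    have h1 : (θ.trans (MulAut.conj x⁻¹)) (f (tMm C (upT u)))
        ∈ ((XM C ⟨C.κ, hi2⟩).map f).map (θ.trans (MulAut.conj x⁻¹)).toMonoidHom :=
      ⟨_, Subgroup.mem_map_of_mem f (by
        rw [XM_tw C _ hnk]
        exact (mem_XT C).2 ⟨u, rfl⟩), rfl⟩
    rw [hX, XM_tw C _ hnk] at h1
    obtain ⟨y, hy, e⟩ := h1
    obtain ⟨v, rfl⟩ := (mem_XT C).1 hy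
    exact ⟨v, e.symm⟩
  · intro u
    have hi2 : C.κ < C.κ + 1 := by omega
    have hnk : ¬ ((⟨C.κ, hi2⟩ : Fin (C.κ + 1)) : ℕ) < C.κ := by simp
    have h1 : (θ.trans (MulAut.conj x⁻¹)) (f (tMm C (loT u)))
        ∈ ((YM C ⟨C.κ, hi2⟩).map f).map (θ.trans (MulAut.conj x⁻¹)).toMonoidHom :=
      ⟨_, Subgroup.mem_map_of_mem f (by
        rw [YM_tw C _ hnk]
        exact (mem_YT C).2 ⟨u, rfl⟩), rfl⟩
    rw [hY, YM_tw C _ hnk] at h1
    obtain ⟨y, hy, e⟩ := h1
    obtain ⟨v, rfl⟩ := (mem_YT C).1 hy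
    exact ⟨v, e.symm⟩

end Cfsg.Agent.Lib.Helper8.AutDMm
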